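import Mathlib
import Groth.Agent.FieldExtLib.Imperfection

/-!
Field-theoretic input for Artinian local algebras with finite imperfection.
-/

set_option autoImplicit false
set_option backward.isDefEq.respectTransparency false

universe u

open TensorProduct KaehlerDifferential

namespace Groth.Agent.ArtSubLib

/-- The connecting map has finite image: the differentials of the base split into an independent
part and a finite part. -/
theorem exists_adapted (Z : Type) {k K : Type u} [Field Z] [Field k] [Field K] [Algebra Z k]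
    [Algebra Z K] [Algebra k K] [IsScalarTower Z k K]
    [Module.Finite K (Algebra.H1Cotangent k K)] :
    ∃ (T : Set k) (S : Finset k), LinearIndepOn K (fun a => D Z K (algebraMap k K a)) T ∧
      Submodule.span k (D Z k '' (T ∪ S)) = ⊤ := by
  classical
  let v : k → K := fun a => algebraMap k K a
  let g : k → K ⊗[k] Ω[k⁄Z] := fun a => 1 ⊗ₜ D Z k a
  have hgtop : Submodule.span K (Set.range g) = ⊤ := by
    refine eq_top_iff.2 fun x _ => ?_
    induction x using TensorProduct.induction_on with
    | zero => exact zero_mem _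
    | tmul c ω =>
      have hω : ω ∈ Submodule.span k (Set.range (D Z k)) := by rw [span_range_derivation]; trivial
      induction hω using Submodule.span_induction generalizing c with
      | mem y hy =>
        obtain ⟨a, rfl⟩ := hy
        rw [← mul_one c, ← smul_eq_mul, ← smul_tmul']
        exact Submodule.smul_mem _ _ (Submodule.subset_span ⟨a, rfl⟩)
      | zero => rw [tmul_zero]; exact zero_mem _
      | add y z _ _ hy hz => rw [tmul_add]; exact add_mem (hy c trivial) (hz c trivial)
      | smul r y _ hy => rw [← smul_tmul]; exact hy _ trivial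
    | add x y hx hy => exact add_mem (hx trivial) (hy trivial)
  let mb := mapBaseChange Z k K
  let V := LinearMap.ker mb
  have hV : V.FG := by
    rw [show V = _ from (Algebra.H1Cotangent.exact_δ_mapBaseChange Z k K).linearMap_ker_eq]
    exact Submodule.fg_range _
  obtain ⟨s, hs⟩ := hV
  have hS : ∀ x ∈ s, ∃ S : Finset k, x ∈ Submodule.span K (g '' (S : Set k)) := fun x _ => by
    obtain ⟨c, hc⟩ := Finsupp.mem_span_range_iff_exists_finsupp.1 (hgtop.ge (Submodule.mem_top (x := x)))
    refine ⟨c.support, ?_⟩
    rw [← hc]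
    rw [Finsupp.sum]
    exact sum_mem fun a ha =>
      Submodule.smul_mem _ _ (Submodule.subset_span (Set.mem_image_of_mem g (Finset.mem_coe.2 ha)))
  choose S hS using hS
  let S' : Finset k := s.attach.biUnion fun x => S x.1 x.2
  have hVS : V ≤ Submodule.span K (g '' (S' : Set k)) := by
    rw [← hs, Submodule.span_le]
    intro x hx
    refine Submodule.span_mono (Set.image_mono ?_) (hS x hx)
    exact_mod_cast Finset.subset_biUnion_of_mem (fun x : s => S x.1 x.2) (Finset.mem_attach s ⟨x, hx⟩)
  let f : k → Ω[K⁄Z] := fun a => D Z K (v a)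
  have h0 : LinearIndepOn K f (∅ : Set k) := linearIndepOn_empty _ _
  let T : Set k := h0.extend (Set.subset_univ _)
  have hT : LinearIndepOn K f T := h0.linearIndepOn_extend _
  have hTspan : ∀ a, f a ∈ Submodule.span K (f '' T) := fun a => by
    rw [h0.span_image_extend_eq_span_image]
    exact Submodule.subset_span ⟨a, trivial, rfl⟩
  have hmb : ∀ a, mb (g a) = f a := fun a => by
    show mapBaseChange Z k K (1 ⊗ₜ D Z k a) = _
    rw [mapBaseChange_tmul, one_smul, map_D]
  have htop : Submodule.span K (g '' (T ∪ S')) = ⊤ := by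
    refine eq_top_iff.2 fun x _ => ?_
    have h1 : mb x ∈ Submodule.span K (f '' T) := by
      have h2 : Submodule.span K (Set.range g) ≤ (Submodule.span K (f '' T)).comap mb :=
        Submodule.span_le.2 (by
          rintro _ ⟨a, rfl⟩
          rw [SetLike.mem_coe, Submodule.mem_comap, hmb]
          exact hTspan a)
      exact h2 (hgtop.ge (Submodule.mem_top (x := x)))
    rw [show f '' T = mb '' (g '' T) by rw [Set.image_image]; exact (Set.image_congr fun a _ => hmb a).symm,
      Submodule.span_image] at h1
    obtain ⟨y, hy, hyx⟩ := h1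
    rw [show x = y + (x - y) by abel]
    exact add_mem (Submodule.span_mono (Set.image_mono Set.subset_union_left) hy)
      (Submodule.span_mono (Set.image_mono Set.subset_union_right)
        (hVS (show mb (x - y) = 0 by rw [map_sub, hyx, sub_self])))
  refine ⟨T, S', hT, ?_⟩
  by_contra hne
  obtain ⟨φ, hφ0, hφ⟩ := Submodule.exists_dual_map_eq_bot_of_lt_top (lt_top_iff_ne_top.2 hne) inferInstance
  apply hφ0
  let Φ : K ⊗[k] Ω[k⁄Z] →ₗ[K] K ⊗[k] k := LinearMap.baseChange K φ
  have hΦ : ∀ x, Φ x = 0 := by
    have : ⊤ ≤ LinearMap.ker Φ := by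
      rw [← htop, Submodule.span_le]
      rintro _ ⟨a, ha, rfl⟩
      have : φ (D Z k a) = 0 :=
        (Submodule.eq_bot_iff _).1 hφ _ ⟨_, Submodule.subset_span ⟨a, ha, rfl⟩, rfl⟩
      simp [Φ, g, this]
    exact fun x => this trivial
  refine LinearMap.ext fun ω => ?_
  have h3 : (1 : K) ⊗ₜ[k] φ ω = 0 := by simpa [Φ] using hΦ (1 ⊗ₜ ω)
  have h4 := congrArg (TensorProduct.rid k K) h3
  simpa [Algebra.smul_def] using h4

/-- In characteristic `p`, elements whose differentials span generate the field over its `p`-th powers. -/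
theorem closure_frobenius_eq_top {k : Type u} [Field k] (p : ℕ) [Fact p.Prime] [CharP k p]
    [Algebra (ZMod p) k] (U : Set k) (hU : Submodule.span k (D (ZMod p) k '' U) = ⊤) :
    Subfield.closure (Set.range (frobenius k p) ∪ U) = ⊤ := by
  let F₀ : Subfield k := Subfield.closure (Set.range (frobenius k p) ∪ U)
  refine eq_top_iff.2 fun x _ => ?_
  by_contra hx
  obtain ⟨M, hF₀M, hMmax⟩ := zorn_le_nonempty₀ {M : Subfield k | F₀ ≤ M ∧ x ∉ M}
    (fun c hc hchain y hy => by
      refine ⟨sSup c, ⟨(hc hy).1.trans (le_sSup hy), fun h => ?_⟩, fun z hz => le_sSup hz⟩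
      rw [Subfield.mem_sSup_of_directedOn ⟨y, hy⟩ hchain.directedOn] at h
      obtain ⟨z, hz, hxz⟩ := h
      exact (hc hz).2 hxz) F₀ ⟨le_rfl, hx⟩
  have hM : F₀ ≤ M ∧ x ∉ M := hMmax.1
  have hp := (Fact.out : p.Prime)
  have hpow : ∀ y : k, y ^ p ∈ M := fun y => hM.1 (Subfield.subset_closure (Or.inl ⟨y, rfl⟩))
  have hint : ∀ y : k, IsIntegral M y := fun y =>
    IsIntegral.of_pow hp.pos (isIntegral_algebraMap (R := M) (A := k) (x := ⟨_, hpow y⟩))
  let P : k → Polynomial M := fun y => Polynomial.X ^ p - Polynomial.C ⟨_, hpow y⟩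
  have hroot : ∀ y, Polynomial.aeval y (P y) = 0 := fun y => by simp [P, sub_eq_zero]; rfl
  have hxdeg : Module.finrank M (IntermediateField.adjoin M {x}) = p := by
    rw [IntermediateField.adjoin.finrank (hint x)]
    have hirr : Irreducible (P x) := X_pow_sub_C_irreducible_of_prime hp fun b hb => by
      have hb' : (b : k) ^ p = x ^ p := congrArg Subtype.val hb
      rw [← frobenius_def, ← frobenius_def] at hb'
      exact hM.2 (frobenius_inj k p hb' ▸ b.2)
    rw [← minpoly.eq_of_irreducible_of_monic hirr (hroot x) (Polynomial.monic_X_pow_sub_C _ hp.ne_zero)]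
    simp [P]
  have htop : IntermediateField.adjoin M {x} = ⊤ := by
    refine eq_top_iff.2 fun y _ => ?_
    by_cases hy : y ∈ M
    · exact IntermediateField.algebraMap_mem _ (⟨y, hy⟩ : M)
    let My := IntermediateField.adjoin M {y}
    have hMy : M ≤ My.toSubfield := fun z hz => My.algebraMap_mem ⟨z, hz⟩
    have hxMy : x ∈ My := by
      by_contra h
      exact hy (hMmax.2 (show My.toSubfield ∈ _ from ⟨hM.1.trans hMy, h⟩) hMy
        (IntermediateField.mem_adjoin_simple_self M y))
    have hle : IntermediateField.adjoin M {x} ≤ My := IntermediateField.adjoin_simple_le_iff.2 hxMy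
    haveI := IntermediateField.adjoin.finiteDimensional (hint y)
    have hdim : Module.finrank M My ≤ Module.finrank M (IntermediateField.adjoin M {x}) := by
      rw [hxdeg, IntermediateField.adjoin.finrank (hint y)]
      refine le_trans (Polynomial.natDegree_le_of_dvd (minpoly.dvd M y (hroot y))
        (Polynomial.monic_X_pow_sub_C _ hp.ne_zero).ne_zero) ?_
      simp [P]
    rw [IntermediateField.eq_of_le_of_finrank_le hle hdim]
    exact IntermediateField.mem_adjoin_simple_self M y
  haveI : FiniteDimensional M k := by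
    haveI := IntermediateField.adjoin.finiteDimensional (hint x)
    exact Module.Finite.of_surjective (IntermediateField.adjoin M {x}).val.toLinearMap
      fun y => ⟨⟨y, htop.ge IntermediateField.mem_top⟩, rfl⟩
  haveI : Subsingleton Ω[k⁄M] := by
    have h1 : (⊤ : Submodule k Ω[k⁄M]) ≤ ⊥ := by
      rw [← span_range_derivation, Submodule.span_le]
      rintro _ ⟨a, rfl⟩
      let d : Derivation ℤ k Ω[k⁄M] := (D M k).restrictScalars ℤ
      have hd : ∀ m ∈ M, d m = 0 := fun m hm => (D M k).map_algebraMap ⟨m, hm⟩
      haveI : CharP M p := (M.subtype).charP Subtype.val_injective p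
      letI : Algebra (ZMod p) M := ZMod.algebra M p
      haveI : @IsScalarTower (ZMod p) M k Algebra.toSMul Algebra.toSMul Algebra.toSMul :=
        IsScalarTower.of_algebraMap_eq' (R := ZMod p) (S := M) (A := k) (RingHom.ext_zmod _ _)
      have h2 : ∀ ω : Ω[k⁄ZMod p], KaehlerDifferential.map (ZMod p) M k k ω = 0 := by
        have : ⊤ ≤ LinearMap.ker (KaehlerDifferential.map (ZMod p) M k k) := by
          rw [← hU, Submodule.span_le]
          rintro _ ⟨u, hu, rfl⟩
          show KaehlerDifferential.map (ZMod p) M k k (D (ZMod p) k u) = 0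
          rw [map_D]
          exact hd u (hM.1 (Subfield.subset_closure (Or.inr hu)))
        exact fun ω => this trivial
      have h5 := h2 (D (ZMod p) k a)
      rw [map_D] at h5
      exact h5
    exact ⟨fun a b => ((Submodule.eq_bot_iff _).1 (le_bot_iff.1 h1) a trivial).trans
      ((Submodule.eq_bot_iff _).1 (le_bot_iff.1 h1) b trivial).symm⟩
  haveI : Algebra.FormallyUnramified M k := ⟨inferInstance⟩
  haveI : Algebra.IsSeparable M k := Algebra.FormallyUnramified.isSeparable M k
  haveI : ExpChar M p := ExpChar.prime hp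
  haveI : IsPurelyInseparable M k :=
    (isPurelyInseparable_iff_pow_mem M p).2 fun y => ⟨1, ⟨_, hpow y⟩, by simp; rfl⟩
  obtain ⟨m, hm⟩ := IsPurelyInseparable.surjective_algebraMap_of_isSeparable M k x
  exact hM.2 (hm ▸ m.2)

end Groth.Agent.ArtSubLib
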