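import Groth.Agent.IndLiftLib.Nilpotent

/-!
Subalgebras of an Artinian local algebra generated by nilpotent elements over a subfield of a
coefficient field.
-/

set_option autoImplicit false
set_option backward.isDefEq.respectTransparency false

universe u

open IsLocalRing MvPolynomial

namespace Groth.Agent.ArtSubLib

variable {L K Λ : Type u} [Field L] [Field K] [CommRing Λ] [Algebra L Λ] [Algebra K Λ] {r : ℕ}

/-- A coefficient field and generators of the maximal ideal generate the whole ring. -/
theorem aeval_surjective [IsArtinianRing Λ] [IsLocalRing Λ] (x : Fin r → Λ)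
    (hx : Ideal.span (Set.range x) = maximalIdeal Λ) (hK : ∀ a : Λ, ∃ c : K, a - algebraMap K Λ c ∈ maximalIdeal Λ) :
    Function.Surjective (aeval x : MvPolynomial (Fin r) K →ₐ[K] Λ) := by
  obtain ⟨N, hN⟩ := (isArtinianRing_iff_isNilpotent_maximalIdeal Λ).1 inferInstance
  let ψ : MvPolynomial (Fin r) K →ₐ[K] Λ := aeval x
  let M : Ideal (MvPolynomial (Fin r) K) := Ideal.span (Set.range X)
  have hM : maximalIdeal Λ = M.map ψ.toRingHom := by
    rw [← hx, Ideal.map_span, ← Set.range_comp]
    congr 1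
    ext i
    simp [ψ]
  have key : ∀ j, j ≤ N → ∀ a ∈ maximalIdeal Λ ^ (N - j), a ∈ ψ.range := by
    intro j
    induction j with
    | zero =>
      intro _ a ha
      rw [Nat.sub_zero, hN] at ha
      rw [show a = 0 from ha]
      exact zero_mem _
    | succ j ih =>
      intro hj a ha
      have hsucc : N - j = (N - (j + 1)) + 1 := by omega
      rw [hM, ← Ideal.map_pow] at ha
      refine (Submodule.span_induction (p := fun b _ => b ∈ maximalIdeal Λ ^ (N - (j + 1)) ∧ b ∈ ψ.range)
        ?_ ⟨zero_mem _, zero_mem _⟩ (fun a b _ _ ha hb => ⟨add_mem ha.1 hb.1, add_mem ha.2 hb.2⟩) ?_ ha).2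
      · rintro _ ⟨q, hq, rfl⟩
        refine ⟨?_, q, rfl⟩
        rw [hM, ← Ideal.map_pow]
        exact Ideal.mem_map_of_mem _ hq
      intro c b _ hb
      obtain ⟨c₀, hc⟩ := hK c
      refine ⟨Ideal.mul_mem_left _ c hb.1, ?_⟩
      have h1 : (c - algebraMap K Λ c₀) * b ∈ maximalIdeal Λ ^ (N - j) := by
        rw [hsucc, pow_succ']
        exact Ideal.mul_mem_mul hc hb.1
      have h2 := add_mem (ih (by omega) _ h1) (mul_mem (ψ.range.algebraMap_mem c₀) hb.2)
      rw [← add_mul, sub_add_cancel] at h2
      exact h2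
  intro a
  exact key N le_rfl a (by rw [Nat.sub_self, pow_zero, Ideal.one_eq_top]; trivial)

variable [Algebra L K] [IsScalarTower L K Λ]

attribute [local instance] MvPolynomial.algebraMvPolynomial

theorem aeval_map (x : Fin r → Λ) (b : MvPolynomial (Fin r) L) :
    aeval x (MvPolynomial.map (algebraMap L K) b) = aeval x b :=
  MvPolynomial.aeval_map_algebraMap K x b

/-- The ring is flat over the subalgebra when the relations are defined over the subfield. -/
theorem flat_range_aeval (x : Fin r → Λ)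
    (hsurj : Function.Surjective (aeval x : MvPolynomial (Fin r) K →ₐ[K] Λ))
    (G : Finset (MvPolynomial (Fin r) K))
    (hG : Ideal.span (G : Set (MvPolynomial (Fin r) K)) = RingHom.ker (aeval x : MvPolynomial (Fin r) K →ₐ[K] Λ))
    (hGL : ∀ g ∈ G, ∃ b : MvPolynomial (Fin r) L, MvPolynomial.map (algebraMap L K) b = g) :
    Module.Flat (aeval x : MvPolynomial (Fin r) L →ₐ[L] Λ).range Λ := by
  haveI : Module.Flat (MvPolynomial (Fin r) L) (MvPolynomial (Fin r) K) :=
    Module.Flat.isBaseChange L (MvPolynomial (Fin r) L) K (MvPolynomial (Fin r) K)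
      (Algebra.IsPushout.out (R := L) (S := MvPolynomial (Fin r) L) (R' := K) (S' := MvPolynomial (Fin r) K))
  let ψL : MvPolynomial (Fin r) L →ₐ[L] Λ := aeval x
  let ψ : MvPolynomial (Fin r) K →ₐ[K] Λ := aeval x
  let J : Ideal (MvPolynomial (Fin r) L) := RingHom.ker ψL.toRingHom
  have hJ : J.map (algebraMap (MvPolynomial (Fin r) L) (MvPolynomial (Fin r) K)) = RingHom.ker ψ.toRingHom := by
    refine le_antisymm (Ideal.map_le_iff_le_comap.2 fun b hb => ?_) ?_
    · show ψ (MvPolynomial.map (algebraMap L K) b) = 0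
      rw [aeval_map]
      exact hb
    · refine le_of_eq_of_le hG.symm (Ideal.span_le.2 fun g hg => ?_)
      obtain ⟨b, rfl⟩ := hGL g hg
      refine Ideal.mem_map_of_mem (algebraMap (MvPolynomial (Fin r) L) (MvPolynomial (Fin r) K))
        (show ψL b = 0 from ?_)
      have h0 : ψ (MvPolynomial.map (algebraMap L K) b) = 0 := hG.le (Submodule.subset_span hg)
      rwa [aeval_map] at h0
  have hf := Groth.Agent.IndLiftLib.flat_quotient_map (Λ := MvPolynomial (Fin r) K) J
  let eA : (MvPolynomial (Fin r) L ⧸ J) ≃+* ψL.range := RingHom.quotientKerEquivRange ψL.toRingHom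
  let eΛ : (MvPolynomial (Fin r) K ⧸
      J.map (algebraMap (MvPolynomial (Fin r) L) (MvPolynomial (Fin r) K))) ≃+* Λ :=
    (Ideal.quotEquivOfEq hJ).trans (RingHom.quotientKerEquivOfSurjective hsurj)
  have hsq : algebraMap ψL.range Λ =
      (eΛ.toRingHom.comp (algebraMap (MvPolynomial (Fin r) L ⧸ J) _)).comp eA.symm.toRingHom := by
    refine RingHom.ext fun a => ?_
    obtain ⟨y, rfl⟩ := eA.surjective a
    obtain ⟨b, rfl⟩ := Ideal.Quotient.mk_surjective y
    show _ = eΛ (algebraMap _ _ (eA.symm (eA _)))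
    rw [RingEquiv.symm_apply_apply]
    exact (aeval_map (K := K) x b).symm
  rw [← RingHom.flat_algebraMap_iff, hsq]
  refine RingHom.Flat.comp (RingHom.Flat.of_bijective eA.symm.bijective) ?_
  exact RingHom.Flat.comp (RingHom.flat_algebraMap_iff.2 hf) (RingHom.Flat.of_bijective eΛ.bijective)

omit [Algebra K Λ] [Algebra L K] [IsScalarTower L K Λ] [Field K] in
/-- A subalgebra generated by nilpotent elements over a field is Artinian and local. -/
theorem range_aeval_local [IsLocalRing Λ] (x : Fin r → Λ) (hx : ∀ i, IsNilpotent (x i)) :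
    Module.Finite L (aeval x : MvPolynomial (Fin r) L →ₐ[L] Λ).range ∧
      (∀ a : (aeval x : MvPolynomial (Fin r) L →ₐ[L] Λ).range, IsUnit (a : Λ) → IsUnit a) := by
  have hfin : Module.Finite L (aeval x : MvPolynomial (Fin r) L →ₐ[L] Λ).range := by
    have h : (Subalgebra.toSubmodule (Algebra.adjoin L (Set.range x))).FG :=
      fg_adjoin_of_finite (Set.finite_range x) (by
        rintro _ ⟨i, rfl⟩
        obtain ⟨N, hN⟩ := hx i
        exact ⟨Polynomial.X ^ N, Polynomial.monic_X_pow N, by simp [hN]⟩)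
    rw [Algebra.adjoin_range_eq_range_aeval] at h
    exact Module.Finite.iff_fg.2 h
  refine ⟨hfin, fun a ha => ?_⟩
  haveI : IsArtinianRing (aeval x : MvPolynomial (Fin r) L →ₐ[L] Λ).range := IsArtinianRing.of_finite L _
  exact IsArtinianRing.isUnit_of_mem_nonZeroDivisors (mem_nonZeroDivisors_iff_right.2 fun b hb =>
    Subtype.ext ((IsUnit.mul_left_eq_zero ha).1 (congrArg Subtype.val hb)))

end Groth.Agent.ArtSubLib
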