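import Groth.Agent.ArtSubLib.Sigma
import Groth.Agent.ArtSubLib.Presentation

/-!
Artinian local subalgebras essentially of finite type, over which an Artinian local algebra is flat.
-/

set_option autoImplicit false
set_option backward.isDefEq.respectTransparency false

universe u

open IsLocalRing MvPolynomial

namespace Groth.Agent.ArtSubLib

theorem essFiniteType_of_ringEquiv {k : Type u} {B C : Type u} [CommRing k] [CommRing B] [CommRing C]
    [Algebra k B] [Algebra k C] [Algebra.EssFiniteType k B] (φ : B ≃+* C)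
    (h : ∀ a, φ (algebraMap k B a) = algebraMap k C a) : Algebra.EssFiniteType k C :=
  (Algebra.EssFiniteType.iff_of_algEquiv (AlgEquiv.ofRingEquiv (f := φ) h)).1 inferInstance

theorem subalgebra_of_subfield {k Λ K L : Type u} [Field k] [CommRing Λ] [Algebra k Λ] [IsArtinianRing Λ]
    [IsLocalRing Λ] [Field K] [Algebra K Λ] [Field L] [Algebra k L] [Algebra.EssFiniteType k L]
    [Algebra L K] [Algebra L Λ] [IsScalarTower L K Λ] {r : ℕ} (x : Fin r → Λ)
    (hx : Submodule.span Λ (Set.range x) = maximalIdeal Λ) (hxnil : ∀ i, IsNilpotent (x i))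
    (k₁ : Subfield k) (S : Finset k) (hS : Subfield.closure ((k₁ : Set k) ∪ S) = ⊤)
    (hk₁ : ∀ a ∈ k₁, algebraMap L Λ (algebraMap k L a) = algebraMap k Λ a)
    (pre : Λ → MvPolynomial (Fin r) K) (hpre : ∀ a, aeval x (pre a) = a)
    (G : Finset (MvPolynomial (Fin r) K))
    (hG : Ideal.span (G : Set (MvPolynomial (Fin r) K)) = RingHom.ker (aeval x : MvPolynomial (Fin r) K →ₐ[K] Λ))
    (E : Finset Λ) (Q : Finset (MvPolynomial (Fin r) K))
    (hGQ : G ⊆ Q) (hEQ : ∀ a ∈ E, pre a ∈ Q) (hSQ : ∀ a ∈ S, pre (algebraMap k Λ a) ∈ Q)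
    (hQ : ∀ q ∈ Q, ∃ b : MvPolynomial (Fin r) L, MvPolynomial.map (algebraMap L K) b = q) :
    ∃ (A : Subalgebra k Λ) (_ : IsLocalRing A), (↑E : Set Λ) ⊆ A ∧ IsArtinianRing A ∧ Module.Flat A Λ ∧
      Algebra.EssFiniteType k A ∧
      (maximalIdeal A).map (algebraMap A Λ) = maximalIdeal Λ := by
  classical
  let R : Subalgebra L Λ := (aeval x : MvPolynomial (Fin r) L →ₐ[L] Λ).range
  have hxR : ∀ i, x i ∈ R := fun i => ⟨X i, aeval_X _ _⟩
  have hQR : ∀ q ∈ Q, aeval x q ∈ R := fun q hq => by
    obtain ⟨b, rfl⟩ := hQ q hq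
    exact ⟨b, (aeval_map (K := K) x b).symm⟩
  obtain ⟨hfin, hunit⟩ := range_aeval_local (L := L) x hxnil
  haveI : Module.Finite L R := hfin
  haveI : IsArtinianRing R := IsArtinianRing.of_finite L R
  have hft : Algebra.FiniteType L R := Module.Finite.finiteType (R := L) R
  haveI : IsLocalRing R := IsLocalRing.of_isUnit_or_isUnit_one_sub_self fun a =>
    (IsLocalRing.isUnit_or_isUnit_one_sub_self (a : Λ)).imp (hunit a) (hunit (1 - a))
  have hk : ∀ a : k, algebraMap k Λ a ∈ R := by
    let T : Subfield k :=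
      { (R.toSubring).comap (algebraMap k Λ) with
        inv_mem' := fun a ha => by
          rcases eq_or_ne a 0 with rfl | h0
          · show algebraMap k Λ 0⁻¹ ∈ R
            simp
          obtain ⟨w, hw⟩ := (hunit ⟨_, ha⟩ ((isUnit_iff_ne_zero.2 h0).map (algebraMap k Λ))).exists_right_inv
          show algebraMap k Λ a⁻¹ ∈ R
          have h3 : algebraMap k Λ a * (w : Λ) = 1 := congrArg Subtype.val hw
          have h4 : algebraMap k Λ a⁻¹ = (w : Λ) := by
            rw [← _root_.mul_one (algebraMap k Λ a⁻¹), ← h3, ← mul_assoc, ← map_mul, inv_mul_cancel₀ h0,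
              map_one, _root_.one_mul]
          exact h4 ▸ w.2 }
    have : Subfield.closure ((k₁ : Set k) ∪ S) ≤ T := Subfield.closure_le.2 (by
      rintro a (ha | ha)
      · show algebraMap k Λ a ∈ R
        rw [← hk₁ a ha]
        exact R.algebraMap_mem (algebraMap k L a)
      · show algebraMap k Λ a ∈ R
        rw [← hpre (algebraMap k Λ a)]
        exact hQR _ (hSQ _ ha))
    exact fun a => (hS ▸ this) trivial
  let A : Subalgebra k Λ := { R.toSubsemiring with algebraMap_mem' := hk }
  let e : R ≃+* A := RingEquiv.refl R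
  haveI : IsLocalRing A := inferInstanceAs (IsLocalRing R)
  haveI : IsArtinianRing A := inferInstanceAs (IsArtinianRing R)
  refine ⟨A, inferInstance, fun a ha => ?_, inferInstance, ?_, ?_, ?_⟩
  · rw [← hpre a]
    exact hQR _ (hEQ _ ha)
  · have hf : Module.Flat R Λ := flat_range_aeval (L := L) (K := K) x (fun a => ⟨pre a, hpre a⟩) G hG
      fun g hg => hQ g (hGQ hg)
    rw [← RingHom.flat_algebraMap_iff]
    exact RingHom.flat_algebraMap_iff.2 hf
  · let k₁' := k₁
    haveI : Algebra.EssFiniteType k₁' k := by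
      have htop : IntermediateField.adjoin k₁' (↑S : Set k) = ⊤ := by
        refine eq_top_iff.2 fun a _ => ?_
        have : Subfield.closure ((k₁ : Set k) ∪ S) ≤ (IntermediateField.adjoin k₁' (↑S : Set k)).toSubfield :=
          Subfield.closure_le.2 (by
            rintro b (hb | hb)
            · exact IntermediateField.algebraMap_mem _ (⟨b, hb⟩ : k₁')
            · exact IntermediateField.subset_adjoin _ _ hb)
        exact (hS ▸ this) trivial
      haveI : Algebra.EssFiniteType k₁' (⊤ : IntermediateField k₁' k) :=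
        IntermediateField.essFiniteType_iff.2 (htop ▸ IntermediateField.fg_adjoin_finset S)
      exact Algebra.EssFiniteType.of_surjective (IntermediateField.topEquiv (F := k₁') (E := k)).toAlgHom
        (IntermediateField.topEquiv (F := k₁') (E := k)).surjective
    haveI : Algebra.EssFiniteType k₁' L := Algebra.EssFiniteType.comp k₁' k L
    haveI : Algebra.FiniteType L R := hft
    letI : Algebra k R := ((algebraMap k Λ).codRestrict R.toSubsemiring hk).toAlgebra
    letI : Algebra k₁' R := ((algebraMap k R).comp k₁.subtype).toAlgebra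
    haveI : IsScalarTower k₁' k R := IsScalarTower.of_algebraMap_eq fun _ => rfl
    haveI : IsScalarTower k₁' L R := IsScalarTower.of_algebraMap_eq fun a => by
      refine Subtype.ext ?_
      show algebraMap k Λ (a : k) = algebraMap L Λ (algebraMap k L (a : k))
      exact (hk₁ _ a.2).symm
    haveI : Algebra.EssFiniteType k₁' R := Algebra.EssFiniteType.comp k₁' L R
    have hEFT : Algebra.EssFiniteType k R := Algebra.EssFiniteType.of_comp k₁' k R
    exact @essFiniteType_of_ringEquiv k R A _ _ _ _ A.algebra hEFT (RingEquiv.refl R) fun _ => rfl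
  · refine le_antisymm (Ideal.map_le_iff_le_comap.2 fun a ha => ?_) ?_
    · exact fun h => ha (show IsUnit a from hunit (e.symm a) h)
    · rw [← hx, Submodule.span_le]
      rintro _ ⟨i, rfl⟩
      have h1 : (⟨x i, hxR i⟩ : A) ∈ maximalIdeal A := fun hu =>
        (show x i ∈ maximalIdeal Λ from hx.le (Submodule.subset_span ⟨i, rfl⟩)) (hu.map A.val)
      exact Ideal.mem_map_of_mem (algebraMap A Λ) h1

theorem exists_subalgebra {k Λ : Type u} [Field k] (p : ℕ) [Fact p.Prime] [CharP k p] [CommRing Λ]
    [Algebra k Λ] [IsArtinianRing Λ] [IsLocalRing Λ]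
    [Module.Finite (ResidueField Λ) (Algebra.H1Cotangent k (ResidueField Λ))] (E : Finset Λ) :
    ∃ (A : Subalgebra k Λ) (_ : IsLocalRing A), (↑E : Set Λ) ⊆ A ∧ IsArtinianRing A ∧ Module.Flat A Λ ∧
      Algebra.EssFiniteType k A ∧
      (maximalIdeal A).map (algebraMap A Λ) = maximalIdeal Λ := by
  classical
  obtain ⟨σ, k₁, S, hσ, hk₁, hS⟩ := exists_section (k := k) (Λ := Λ) p
  obtain ⟨r, x, hx⟩ := Submodule.fg_iff_exists_fin_generating_family.1
    (IsNoetherian.noetherian (maximalIdeal Λ))
  let K := ResidueField Λ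
  letI algKΛ : Algebra K Λ := σ.toAlgebra
  let ψ : MvPolynomial (Fin r) K →ₐ[K] Λ := aeval x
  have hxnil : ∀ i, IsNilpotent (x i) := fun i => by
    obtain ⟨N, hN⟩ := (isArtinianRing_iff_isNilpotent_maximalIdeal Λ).1 inferInstance
    have h2 := Ideal.pow_mem_pow (show x i ∈ maximalIdeal Λ from hx.le (Submodule.subset_span ⟨i, rfl⟩)) N
    rw [hN] at h2
    exact ⟨N, h2⟩
  have hψ : Function.Surjective ψ := aeval_surjective x hx fun a => ⟨residue Λ a, by
    rw [← residue_eq_zero_iff, map_sub]
    exact sub_eq_zero.2 (hσ _).symm⟩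
  obtain ⟨G, hG⟩ := (IsNoetherian.noetherian (RingHom.ker ψ) : (RingHom.ker ψ).FG)
  choose pre hpre using hψ
  let Q : Finset (MvPolynomial (Fin r) K) :=
    G ∪ E.image pre ∪ S.image (fun a => pre (algebraMap k Λ a))
  let L : IntermediateField k K := IntermediateField.adjoin k (↑(Q.biUnion fun q => q.coeffs) : Set K)
  letI : Algebra L Λ := (σ.comp (algebraMap L K)).toAlgebra
  haveI : IsScalarTower L K Λ := IsScalarTower.of_algebraMap_eq fun _ => rfl
  haveI : Algebra.EssFiniteType k L :=
    IntermediateField.essFiniteType_iff.2 (IntermediateField.fg_adjoin_finset _)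
  refine subalgebra_of_subfield (L := L) (K := K) x hx hxnil k₁ S hS (fun a ha => hk₁ a ha) pre hpre G hG E Q
    (fun g hg => Finset.mem_union_left _ (Finset.mem_union_left _ hg))
    (fun a ha => Finset.mem_union_left _ (Finset.mem_union_right _ (Finset.mem_image_of_mem _ ha)))
    (fun a ha => Finset.mem_union_right _ (Finset.mem_image_of_mem (fun a => pre (algebraMap k Λ a)) ha))
    fun q hq => ?_
  have : (↑q.coeffs : Set K) ⊆ Set.range (algebraMap L K) := fun c hc =>
    ⟨⟨c, IntermediateField.subset_adjoin _ _ (Finset.mem_coe.2 (Finset.mem_biUnion.2 ⟨q, hq, hc⟩))⟩, rfl⟩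
  exact MvPolynomial.mem_range_map_iff_coeffs_subset.2 this

end Groth.Agent.ArtSubLib
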