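import Groth.Agent.ArtSubLib.Field

/-!
A section of the residue map compatible with the structure map up to a finite amount of data.
-/

set_option autoImplicit false
set_option backward.isDefEq.respectTransparency false

universe u

open TensorProduct KaehlerDifferential IsLocalRing

namespace Groth.Agent.ArtSubLib

/-- The subfield on which two ring maps agree. -/
def eqField {k A : Type u} [Field k] [CommRing A] (f g : k →+* A) : Subfield k :=
  { f.eqLocus g with
    inv_mem' := fun x hx => by
      rcases eq_or_ne x 0 with rfl | hne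
      · show f 0⁻¹ = g 0⁻¹
        simp
      · have h1 : f x⁻¹ * f x = 1 := by rw [← map_mul, inv_mul_cancel₀ hne, map_one]
        have h2 : g x * g x⁻¹ = 1 := by rw [← map_mul, mul_inv_cancel₀ hne, map_one]
        show f x⁻¹ = g x⁻¹
        calc f x⁻¹ = f x⁻¹ * (g x * g x⁻¹) := by rw [h2, _root_.mul_one]
          _ = g x⁻¹ := by rw [← show f x = g x from hx, ← mul_assoc, h1, _root_.one_mul] }

/-- Iterated powers. -/
theorem closure_iterate_eq_top {k : Type u} [Field k] (p : ℕ) [Fact p.Prime] [CharP k p] (U : Set k)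
    (hU : Subfield.closure (Set.range (frobenius k p) ∪ U) = ⊤) (N : ℕ) :
    Subfield.closure (Set.range (iterateFrobenius k p N) ∪ U) = ⊤ := by
  induction N with
  | zero =>
    refine eq_top_iff.2 fun x _ => Subfield.subset_closure (Or.inl ⟨x, ?_⟩)
    simp [iterateFrobenius_def]
  | succ N ih =>
    refine eq_top_iff.2 (hU.ge.trans (Subfield.closure_le.2 ?_))
    rintro _ (⟨y, rfl⟩ | h)
    · have hy : y ∈ Subfield.closure (Set.range (iterateFrobenius k p N) ∪ U) := ih.ge trivial
      have h2 : Subfield.closure (Set.range (iterateFrobenius k p N) ∪ U) ≤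
          (Subfield.closure (Set.range (iterateFrobenius k p (N + 1)) ∪ U)).comap (frobenius k p) := by
        refine Subfield.closure_le.2 ?_
        rintro w (⟨z, rfl⟩ | hz)
        · refine Subfield.subset_closure (Or.inl ⟨z, ?_⟩)
          simp [iterateFrobenius_def, frobenius_def, ← pow_mul, pow_succ]
        · show frobenius k p w ∈ Subfield.closure (Set.range (iterateFrobenius k p (N + 1)) ∪ U)
          rw [frobenius_def]
          refine pow_mem (Subfield.subset_closure ?_) p
          exact Or.inr hz
      exact h2 hy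
    · exact Subfield.subset_closure (Or.inr h)

theorem injective_mapBaseChange (Z : Type) {F K : Type u} {ι : Type u} [Field Z] [Field F] [Field K]
    [Algebra Z F] [Algebra Z K] [Algebra F K] [IsScalarTower Z F K] (v : ι → F)
    (hv : Submodule.span F (Set.range fun i => D Z F (v i)) = ⊤)
    (hli : LinearIndependent K fun i => D Z K (algebraMap F K (v i))) :
    Function.Injective (mapBaseChange Z F K) := by
  let g : ι → K ⊗[F] Ω[F⁄Z] := fun i => 1 ⊗ₜ D Z F (v i)
  have hg : Submodule.span K (Set.range g) = ⊤ := by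
    refine eq_top_iff.2 fun x _ => ?_
    have : ∀ (c : K) (ω : Ω[F⁄Z]), c ⊗ₜ[F] ω ∈ Submodule.span K (Set.range g) := fun c ω => by
      have hω := hv.ge (Submodule.mem_top (x := ω))
      induction hω using Submodule.span_induction generalizing c with
      | mem y hy =>
        obtain ⟨t, rfl⟩ := hy
        rw [← _root_.mul_one c, ← smul_eq_mul, ← smul_tmul']
        exact Submodule.smul_mem _ _ (Submodule.subset_span ⟨t, rfl⟩)
      | zero => rw [tmul_zero]; exact zero_mem _
      | add y z _ _ hy hz => rw [tmul_add]; exact add_mem (hy c) (hz c)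
      | smul r y _ hy => rw [← smul_tmul]; exact hy _
    induction x using TensorProduct.induction_on with
    | zero => exact zero_mem _
    | tmul c ω => exact this c ω
    | add x y hx hy => exact add_mem (hx trivial) (hy trivial)
  refine (injective_iff_map_eq_zero _).2 fun x hx => ?_
  obtain ⟨c, rfl⟩ := Finsupp.mem_span_range_iff_exists_finsupp.1 (hg.ge (Submodule.mem_top (x := x)))
  have h0 : Finsupp.linearCombination K (fun i => D Z K (algebraMap F K (v i))) c = 0 := by
    rw [← hx, map_finsuppSum, Finsupp.linearCombination_apply]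
    refine Finsupp.sum_congr fun t _ => ?_
    rw [map_smul, mapBaseChange_tmul, one_smul, map_D]
  rw [linearIndependent_iff.1 hli c h0, Finsupp.sum_zero_index]

theorem exists_section {k Λ : Type u} [Field k] (p : ℕ) [Fact p.Prime] [CharP k p] [CommRing Λ] [Algebra k Λ]
    [IsArtinianRing Λ] [IsLocalRing Λ] [Module.Finite (ResidueField Λ) (Algebra.H1Cotangent k (ResidueField Λ))] :
    ∃ (σ : ResidueField Λ →+* Λ) (k₁ : Subfield k) (S : Finset k),
      (∀ c, residue Λ (σ c) = c) ∧
      (∀ a ∈ k₁, σ (algebraMap k (ResidueField Λ) a) = algebraMap k Λ a) ∧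
      Subfield.closure ((k₁ : Set k) ∪ S) = ⊤ := by
  let K := ResidueField Λ
  haveI : CharP Λ p := charP_of_injective_algebraMap (algebraMap k Λ).injective p
  haveI : CharP K p := charP_of_injective_algebraMap (algebraMap k K).injective p
  letI : Algebra (ZMod p) k := ZMod.algebra k p
  letI : Algebra (ZMod p) K := ZMod.algebra K p
  haveI : @IsScalarTower (ZMod p) k K Algebra.toSMul Algebra.toSMul Algebra.toSMul :=
    IsScalarTower.of_algebraMap_eq' (RingHom.ext_zmod _ _)
  obtain ⟨T, S, hT, htop⟩ := exists_adapted (ZMod p) (k := k) (K := K)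
  let F : IntermediateField (ZMod p) k := IntermediateField.adjoin (ZMod p) T
  letI : Algebra F K := ((algebraMap k K).comp F.val.toRingHom).toAlgebra
  letI : Algebra F Λ := ((algebraMap k Λ).comp F.val.toRingHom).toAlgebra
  haveI : @IsScalarTower (ZMod p) F K Algebra.toSMul Algebra.toSMul Algebra.toSMul :=
    IsScalarTower.of_algebraMap_eq' (R := ZMod p) (S := F) (A := K) (RingHom.ext_zmod _ _)
  haveI : Algebra.FormallySmooth (ZMod p) K := FieldExtLib.formallySmooth_field_of_perfectField _ _
  have hgen : Submodule.span F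
      (Set.range fun t : T => D (ZMod p) F ⟨t.1, IntermediateField.subset_adjoin _ _ t.2⟩) = ⊤ := by
    refine eq_top_iff.2 ?_
    rw [← span_range_derivation, Submodule.span_le]
    rintro _ ⟨⟨x, hx⟩, rfl⟩
    induction hx using IntermediateField.adjoin_induction with
    | mem t ht => exact Submodule.subset_span ⟨⟨t, ht⟩, rfl⟩
    | algebraMap z =>
      have : D (ZMod p) F (algebraMap (ZMod p) F z) = 0 := Derivation.map_algebraMap _ z
      exact this.symm ▸ zero_mem _
    | add a b ha hb iha ihb =>
      have := (D (ZMod p) F).map_add ⟨a, ha⟩ ⟨b, hb⟩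
      exact this.symm ▸ add_mem iha ihb
    | inv a ha iha =>
      have := (D (ZMod p) F).leibniz_inv (⟨a, ha⟩ : F)
      exact this.symm ▸ Submodule.smul_mem _ _ iha
    | mul a b ha hb iha ihb =>
      have := (D (ZMod p) F).leibniz ⟨a, ha⟩ ⟨b, hb⟩
      exact this.symm ▸ add_mem (Submodule.smul_mem _ _ ihb) (Submodule.smul_mem _ _ iha)
  have hinj : Function.Injective (mapBaseChange (ZMod p) F K) :=
    injective_mapBaseChange (ZMod p) _ hgen hT
  haveI : Subsingleton (Algebra.H1Cotangent F K) := by
    refine ⟨fun a b => FieldExtLib.δ_injective (R := ZMod p) (F := ZMod p) (K := F) (hinj ?_)⟩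
    rw [(Algebra.H1Cotangent.exact_δ_mapBaseChange (ZMod p) F K).apply_apply_eq_zero,
      (Algebra.H1Cotangent.exact_δ_mapBaseChange (ZMod p) F K).apply_apply_eq_zero]
  haveI : Algebra.FormallySmooth F K := (Algebra.formallySmooth_iff _ _).2 ⟨inferInstance, inferInstance⟩
  let πA : Λ →ₐ[F] K := { residue Λ with commutes' := fun _ => rfl }
  have hnil : IsNilpotent (RingHom.ker (πA : Λ →+* K)) := by
    rw [show RingHom.ker (πA : Λ →+* K) = maximalIdeal Λ from IsLocalRing.ker_residue]
    exact (isArtinianRing_iff_isNilpotent_maximalIdeal Λ).1 inferInstance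
  let σ : K →ₐ[F] Λ := Algebra.FormallySmooth.liftOfSurjective (AlgHom.id F K) πA residue_surjective hnil
  have hσ : ∀ c, residue Λ (σ c) = c := fun c =>
    Algebra.FormallySmooth.liftOfSurjective_apply (AlgHom.id F K) πA residue_surjective hnil c
  obtain ⟨N, hN⟩ := (isArtinianRing_iff_isNilpotent_maximalIdeal Λ).1 inferInstance
  let k₁ := eqField (σ.toRingHom.comp (algebraMap k K)) (algebraMap k Λ)
  refine ⟨σ.toRingHom, k₁, S, hσ, fun a ha => ha, eq_top_iff.2 ?_⟩
  have h1 := closure_iterate_eq_top p _ (closure_frobenius_eq_top p (T ∪ (S : Set k)) htop) N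
  rw [← h1, Subfield.closure_le]
  rintro _ (⟨y, rfl⟩ | ht | hs)
  · refine Subfield.subset_closure (Or.inl ?_)
    show σ.toRingHom (algebraMap k K (iterateFrobenius k p N y)) = algebraMap k Λ (iterateFrobenius k p N y)
    rw [iterateFrobenius_def, map_pow, map_pow, map_pow, ← sub_eq_zero, ← sub_pow_char_pow]
    have hm : σ.toRingHom (algebraMap k K y) - algebraMap k Λ y ∈ maximalIdeal Λ := by
      rw [← residue_eq_zero_iff, map_sub]
      show residue Λ (σ _) - _ = 0
      rw [hσ, sub_eq_zero]
      rfl
    have hpN : N ≤ p ^ N := (Nat.lt_pow_self (Fact.out : p.Prime).one_lt).le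
    have h3 := Ideal.pow_le_pow_right hpN (Ideal.pow_mem_pow hm (p ^ N))
    rw [hN] at h3
    exact h3
  · exact Subfield.subset_closure (Or.inl (σ.commutes ⟨_, IntermediateField.subset_adjoin _ _ ht⟩))
  · exact Subfield.subset_closure (Or.inr hs)

end Groth.Agent.ArtSubLib
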